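import Mathlib

set_option autoImplicit false

/-!
# Membership in `I • ⊤` after localization (helper56)

For a base ring `A`, an `A`-algebra `P`, a `P`-module `X` and a prime `q` of `P`,
`LocMem q I y` says that some `t ∉ q` moves `y` into `I • X`.  This is membership of the image of
`y` in `I • X_q`.
-/

namespace Groth.Agent.H56.FlatDesc

universe u

section

variable {A P : Type*} [CommRing A] [CommRing P] [Algebra A P]
  {X : Type*} [AddCommGroup X] [Module A X] [Module P X] [IsScalarTower A P X]

/-- `y` lies in `I • X` locally at the prime `q` of `P`. -/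
def LocMem (q : Ideal P) (I : Ideal A) (y : X) : Prop :=
  ∃ t : P, t ∉ q ∧ t • y ∈ (I • ⊤ : Submodule A X)

omit [IsScalarTower A P X] in
theorem LocMem.mono {q : Ideal P} {I J : Ideal A} (h : I ≤ J) {y : X} (hy : LocMem q I y) :
    LocMem q J y := by
  obtain ⟨t, ht, hty⟩ := hy
  exact ⟨t, ht, Submodule.smul_mono_left h hty⟩

/-- `I • ⊤` is stable under the action of the algebra `P`. -/
theorem smul_mem_smul_top (I : Ideal A) (p : P) {y : X} (hy : y ∈ (I • ⊤ : Submodule A X)) :
    p • y ∈ (I • ⊤ : Submodule A X) := by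
  have := Submodule.smul_top_le_comap_smul_top I
    ((LinearMap.lsmul P X p).restrictScalars A) hy
  simpa using this

theorem LocMem.smul {q : Ideal P} [q.IsPrime] {I : Ideal A} {y : X} (hy : LocMem q I y)
    (p : P) : LocMem q I (p • y) := by
  obtain ⟨t, ht, hty⟩ := hy
  refine ⟨t, ht, ?_⟩
  rw [smul_comm]
  exact smul_mem_smul_top I p hty

theorem locMem_of_smul {q : Ideal P} [q.IsPrime] {I : Ideal A} {y : X} {s : P} (hs : s ∉ q)
    (hy : LocMem q I (s • y)) : LocMem q I y := by
  obtain ⟨t, ht, hty⟩ := hy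
  refine ⟨t * s, fun h => (Ideal.IsPrime.mem_or_mem inferInstance h).elim ht hs, ?_⟩
  rwa [mul_smul]

variable {X' : Type*} [AddCommGroup X'] [Module A X'] [Module P X'] [IsScalarTower A P X']

/-- Membership in `I • ⊤` of a localized module, in terms of the original module. -/
theorem mem_smul_top_iff_locMem (q : Ideal P) [q.IsPrime] (f : X →ₗ[P] X')
    [IsLocalizedModule q.primeCompl f] (I : Ideal A) (y : X) :
    f y ∈ (I • ⊤ : Submodule A X') ↔ LocMem q I y := by
  have hfA : ∀ (a : A) (x : X), f (a • x) = a • f x := fun a x => by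
    rw [← algebraMap_smul P a x, map_smul, algebraMap_smul]
  constructor
  · intro h
    -- the set of elements of `X'` which come, up to a denominator, from `I • X`
    have key : ∀ x' ∈ (I • ⊤ : Submodule A X'),
        ∃ y' ∈ (I • ⊤ : Submodule A X), ∃ t : P, t ∉ q ∧ t • x' = f y' := by
      intro x' hx'
      refine Submodule.smul_induction_on hx' ?_ ?_
      · intro a ha x'' _
        obtain ⟨⟨y₀, s⟩, hs⟩ := IsLocalizedModule.surj q.primeCompl f x''
        refine ⟨a • y₀, Submodule.smul_mem_smul ha trivial, s.1, s.2, ?_⟩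
        rw [hfA, smul_comm]
        congr 1
      · rintro x₁ x₂ ⟨y₁, hy₁, t₁, ht₁, e₁⟩ ⟨y₂, hy₂, t₂, ht₂, e₂⟩
        refine ⟨t₂ • y₁ + t₁ • y₂, Submodule.add_mem _ (smul_mem_smul_top I t₂ hy₁)
          (smul_mem_smul_top I t₁ hy₂), t₁ * t₂,
          fun h => (Ideal.IsPrime.mem_or_mem inferInstance h).elim ht₁ ht₂, ?_⟩
        rw [smul_add, map_add, map_smul, map_smul, ← e₁, ← e₂, mul_comm t₁ t₂, mul_smul,
          mul_comm t₂ t₁, mul_smul, smul_comm t₁ t₂ x₂]
    obtain ⟨y', hy', t, ht, e⟩ := key _ h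
    rw [← map_smul] at e
    obtain ⟨c, hc⟩ := IsLocalizedModule.exists_of_eq (S := q.primeCompl) e
    refine ⟨c.1 * t, fun h => (Ideal.IsPrime.mem_or_mem inferInstance h).elim c.2 ht, ?_⟩
    rw [mul_smul]
    have : c.1 • t • y = c.1 • y' := hc
    rw [this]
    exact smul_mem_smul_top I c.1 hy'
  · rintro ⟨t, ht, hty⟩
    have h1 : f (t • y) ∈ (I • ⊤ : Submodule A X') := by
      have := Submodule.smul_top_le_comap_smul_top I
        ({ toFun := f, map_add' := f.map_add, map_smul' := hfA } : X →ₗ[A] X') hty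
      simpa using this
    rw [map_smul] at h1
    have hu := IsLocalizedModule.map_units f (⟨t, ht⟩ : q.primeCompl)
    obtain ⟨e, he⟩ := hu
    -- `e⁻¹` is `P`-linear hence `A`-linear
    have h2 : (e⁻¹ : (Module.End P X')ˣ).1 (t • f y) = f y := by
      have : t • f y = e.1 (f y) := by rw [he]; rfl
      rw [this]
      change ((e⁻¹ : (Module.End P X')ˣ).1 * e.1) (f y) = f y
      rw [Units.inv_mul]
      rfl
    rw [← h2]
    have := Submodule.smul_top_le_comap_smul_top I
      (((e⁻¹ : (Module.End P X')ˣ).1).restrictScalars A) h1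
    simpa using this

end

end Groth.Agent.H56.FlatDesc
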