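import Mathlib
import Groth.Agent.H1.FlatLocusDescentPt
import Groth.Agent.H2.InjModMax

set_option autoImplicit false

/-!
# Models of a linear map between two finitely presented modules over a polynomial ring (helper56)

A `PModel Z` is a pair of presentation patterns (in the sense of `H1.FlatLocus.Model`) over the
same polynomial ring `Z[x₁..x_r]` together with a matrix inducing a map between the presented
modules.  For every `Z`-algebra `C` this gives `uMod C : Mod_M C → Mod_N C`, natural in `C`.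
-/

namespace Groth.Agent.H56.FlatDesc

universe u

open Groth.Agent.H1.FlatLocus

attribute [local instance] MvPolynomial.algebraMvPolynomial

/-- Presentation pattern of a linear map `M → N` of finitely presented modules over a polynomial
ring in `r` variables. -/
structure PModel (Z : Type u) [CommRing Z] where
  /-- number of variables -/
  r : ℕ
  /-- generators of the target -/
  nN : ℕ
  /-- relations of the target -/
  mN : ℕ
  /-- the relations of the target -/
  gN : Fin mN → Fin nN → MvPolynomial (Fin r) Z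
  /-- generators of the source -/
  nM : ℕ
  /-- relations of the source -/
  mM : ℕ
  /-- the relations of the source -/
  gM : Fin mM → Fin nM → MvPolynomial (Fin r) Z
  /-- images of the generators of the source -/
  U : Fin nM → Fin nN → MvPolynomial (Fin r) Z
  /-- witnesses that relations go to relations -/
  W : Fin mM → Fin mN → MvPolynomial (Fin r) Z
  /-- relations go to relations -/
  hW : ∀ j, ∑ i, gM j i • U i = ∑ k, W j k • gN k

namespace PModel

variable {Z : Type u} [CommRing Z] (𝓓 : PModel Z)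

/-- The model of the target. -/
abbrev modelN : Model Z := ⟨𝓓.r, 𝓓.nN, 𝓓.mN, 𝓓.gN⟩

/-- The model of the source. -/
abbrev modelM : Model Z := ⟨𝓓.r, 𝓓.nM, 𝓓.mM, 𝓓.gM⟩

/-- The polynomial ring over `C`. -/
abbrev P (C : Type u) [CommRing C] : Type u := MvPolynomial (Fin 𝓓.r) C

section level

variable (C : Type u) [CommRing C] [Algebra Z C]

/-- The map on free modules. -/
noncomputable def uF : 𝓓.modelM.F C →ₗ[𝓓.P C] 𝓓.modelN.F C :=
  Fintype.linearCombination (𝓓.P C) (fun i => 𝓓.modelN.mapF Z C (𝓓.U i))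

lemma uF_apply (x : 𝓓.modelM.F C) :
    𝓓.uF C x = ∑ i, x i • 𝓓.modelN.mapF Z C (𝓓.U i) := by
  simp [uF, Fintype.linearCombination_apply]

lemma uF_gen (j : Fin 𝓓.mM) :
    𝓓.uF C (𝓓.modelM.gen C j) =
      ∑ k, (MvPolynomial.map (algebraMap Z C) (𝓓.W j k)) • 𝓓.modelN.gen C k := by
  rw [uF_apply]
  have h1 : ∀ i, (𝓓.modelM.gen C j) i • 𝓓.modelN.mapF Z C (𝓓.U i) =
      𝓓.modelN.mapF Z C (𝓓.gM j i • 𝓓.U i) := by
    intro i
    rw [Model.mapF_smul_poly]
    rfl
  simp only [h1]
  rw [← map_sum, 𝓓.hW j, map_sum]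
  refine Finset.sum_congr rfl fun k _ => ?_
  rw [Model.mapF_smul_poly]
  rfl

lemma uF_mem_K {x : 𝓓.modelM.F C} (hx : x ∈ 𝓓.modelM.K C) : 𝓓.uF C x ∈ 𝓓.modelN.K C := by
  rw [Model.K] at hx
  induction hx using Submodule.span_induction with
  | mem x hx =>
    obtain ⟨j, rfl⟩ := hx
    rw [uF_gen]
    exact Submodule.sum_mem _ fun k _ =>
      Submodule.smul_mem _ _ (Submodule.subset_span ⟨k, rfl⟩)
  | zero => rw [map_zero]; exact Submodule.zero_mem _
  | add a b _ _ ha hb => rw [map_add]; exact Submodule.add_mem _ ha hb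
  | smul c a _ ha => rw [map_smul]; exact Submodule.smul_mem _ _ ha

/-- The map on presented modules. -/
noncomputable def uMod : 𝓓.modelM.Mod C →ₗ[𝓓.P C] 𝓓.modelN.Mod C :=
  (𝓓.modelM.K C).mapQ (𝓓.modelN.K C) (𝓓.uF C) (fun _ hx => 𝓓.uF_mem_K C hx)

@[simp] lemma uMod_mk (x : 𝓓.modelM.F C) :
    𝓓.uMod C (Submodule.Quotient.mk x) = Submodule.Quotient.mk (𝓓.uF C x) := rfl

end level

section nat

variable (C C' : Type u) [CommRing C] [CommRing C'] [Algebra C C'] [Algebra Z C] [Algebra Z C']
  [IsScalarTower Z C C']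

lemma mapF_uF (x : 𝓓.modelM.F C) :
    𝓓.modelN.mapF C C' (𝓓.uF C x) = 𝓓.uF C' (𝓓.modelM.mapF C C' x) := by
  rw [uF_apply, uF_apply, map_sum]
  refine Finset.sum_congr rfl fun i _ => ?_
  rw [Model.mapF_smul_poly', Model.mapF_comp]
  rfl

lemma mapMod_uMod (y : 𝓓.modelM.Mod C) :
    𝓓.modelN.mapMod C C' (𝓓.uMod C y) = 𝓓.uMod C' (𝓓.modelM.mapMod C C' y) := by
  obtain ⟨x, rfl⟩ := Submodule.Quotient.mk_surjective _ y
  rw [uMod_mk, Model.mapMod_mk, Model.mapMod_mk, uMod_mk, mapF_uF]

end nat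

end PModel

/-! ### Further lemmas on `Model` -/

section ModelLemmas

variable {Z : Type u} [CommRing Z] (𝓜 : Model Z)

section semilinear

variable (C C' : Type u) [CommRing C] [CommRing C'] [Algebra C C'] [Algebra Z C] [Algebra Z C']
  [IsScalarTower Z C C']

lemma mapMod_smul_poly (p : 𝓜.P C) (y : 𝓜.Mod C) :
    𝓜.mapMod C C' (p • y) = (MvPolynomial.map (algebraMap C C') p) • 𝓜.mapMod C C' y := by
  rw [map_smul]
  rfl

lemma mapMod_smul_base (a : C) (y : 𝓜.Mod C) :
    𝓜.mapMod C C' (a • y) = (algebraMap C C' a) • 𝓜.mapMod C C' y := by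
  rw [← algebraMap_smul (𝓜.P C) a y, mapMod_smul_poly, MvPolynomial.algebraMap_eq,
    MvPolynomial.map_C, ← MvPolynomial.algebraMap_eq, algebraMap_smul]

/-- The base change map sends `I • Mod C` into `(I C') • Mod C'`. -/
lemma mapMod_mem_smul_top (I : Ideal C) {y : 𝓜.Mod C}
    (hy : y ∈ (I • ⊤ : Submodule C (𝓜.Mod C))) :
    𝓜.mapMod C C' y ∈ (I.map (algebraMap C C') • ⊤ : Submodule C' (𝓜.Mod C')) := by
  refine Submodule.smul_induction_on hy ?_ ?_
  · intro a ha x _
    rw [mapMod_smul_base]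
    exact Submodule.smul_mem_smul (Ideal.mem_map_of_mem _ ha) trivial
  · intro x y hx hy
    rw [map_add]
    exact Submodule.add_mem _ hx hy

end semilinear

section comp

variable (C C' C'' : Type u) [CommRing C] [CommRing C'] [CommRing C''] [Algebra C C']
  [Algebra C' C''] [Algebra C C''] [IsScalarTower C C' C''] [Algebra Z C] [Algebra Z C']
  [Algebra Z C''] [IsScalarTower Z C C'] [IsScalarTower Z C' C''] [IsScalarTower Z C C'']

lemma mapF_mapF (x : 𝓜.F C) : 𝓜.mapF C' C'' (𝓜.mapF C C' x) = 𝓜.mapF C C'' x := by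
  ext i : 1
  simp only [Model.mapF_apply, MvPolynomial.map_map]
  rw [← IsScalarTower.algebraMap_eq]

lemma mapMod_mapMod (y : 𝓜.Mod C) : 𝓜.mapMod C' C'' (𝓜.mapMod C C' y) = 𝓜.mapMod C C'' y := by
  obtain ⟨x, rfl⟩ := Submodule.Quotient.mk_surjective _ y
  rw [Model.mapMod_mk, Model.mapMod_mk, Model.mapMod_mk, mapF_mapF]

end comp

section ker

variable (C C' : Type u) [CommRing C] [CommRing C'] [Algebra C C'] [Algebra Z C] [Algebra Z C']
  [IsScalarTower Z C C']

/-- For a surjective base change `C → C'`, the kernel of `Mod C → Mod C'` is `(ker) • Mod C`. -/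
lemma mem_smul_top_of_mapMod_eq_zero (hsurj : Function.Surjective (algebraMap C C'))
    {y : 𝓜.Mod C} (hy : 𝓜.mapMod C C' y = 0) :
    y ∈ (RingHom.ker (algebraMap C C') • ⊤ : Submodule C (𝓜.Mod C)) := by
  classical
  obtain ⟨x, rfl⟩ := Submodule.Quotient.mk_surjective _ y
  rw [Model.mapMod_mk, Submodule.Quotient.mk_eq_zero, Model.K,
    Submodule.mem_span_range_iff_exists_fun] at hy
  obtain ⟨c, hc⟩ := hy
  have hsurjP : Function.Surjective (MvPolynomial.map (σ := Fin 𝓜.r) (algebraMap C C')) :=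
    MvPolynomial.map_surjective _ hsurj
  choose c' hc' using fun j => hsurjP (c j)
  set x' : 𝓜.F C := x - ∑ j, c' j • 𝓜.gen C j with hx'
  have hx'0 : 𝓜.mapF C C' x' = 0 := by
    rw [hx', map_sub, map_sum, ← hc, sub_eq_zero]
    refine (Finset.sum_congr rfl fun j _ => ?_).symm
    rw [Model.mapF_smul_poly', hc', Model.mapF_gen]
  have hmk : (Submodule.Quotient.mk x : 𝓜.Mod C) = Submodule.Quotient.mk x' := by
    rw [hx', Submodule.Quotient.mk_sub, sub_eq_self.mpr]
    rw [Submodule.Quotient.mk_eq_zero]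
    exact Submodule.sum_mem _ fun j _ =>
      Submodule.smul_mem _ _ (Submodule.subset_span ⟨j, rfl⟩)
  rw [hmk]
  -- all coefficients of `x'` lie in the kernel
  have hcoef : ∀ i m, (x' i).coeff m ∈ RingHom.ker (algebraMap C C') := by
    intro i m
    have := congrArg (fun f => (f i).coeff m) hx'0
    simp only [Model.mapF_apply, MvPolynomial.coeff_map, Pi.zero_apply, MvPolynomial.coeff_zero]
      at this
    exact this
  have h1 : x' ∈ smulTop (𝓜.P C) (𝓜.F C) (RingHom.ker (algebraMap C C')) :=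
    (𝓜.mem_smulTop_iff_coeff C _ x').mpr hcoef
  rw [smulTop, Groth.Agent.H2.mem_map_smul_top_iff] at h1
  have := Submodule.smul_top_le_comap_smul_top (RingHom.ker (algebraMap C C'))
    ((𝓜.K C).mkQ.restrictScalars C) h1
  simpa using this

end ker

end ModelLemmas

end Groth.Agent.H56.FlatDesc
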