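import Mathlib
import Groth.Agent.H56.FlatDesc.LocMem
import Groth.Agent.H56.FlatDesc.PModel
import Groth.Agent.H70.FlatAbove.Core

set_option autoImplicit false

/-!
# Closed fibres of a model inject under a flat residue extension (helper56)

`A → R` with residue rings `kA → kR` (a flat extension).  For `y ∈ Mod A`: if the image of `y` in
`Mod R` lies in `𝔪_R Mod R` locally at a prime `q` of `P_R` containing `𝔪_R`, then `y` lies in
`𝔪_A Mod A` locally at `q ∩ P_A`.
-/

namespace Groth.Agent.H56.FlatDesc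

universe u

open Groth.Agent.H1.FlatLocus TensorProduct

attribute [local instance] MvPolynomial.algebraMvPolynomial

section

variable {Z : Type u} [CommRing Z] (𝓜 : Model Z)
  (A R kA kR : Type u) [CommRing A] [CommRing R] [CommRing kA] [CommRing kR]
  [Algebra Z A] [Algebra Z R] [Algebra Z kA] [Algebra Z kR]
  [Algebra A R] [Algebra A kA] [Algebra R kR] [Algebra kA kR] [Algebra A kR]
  [IsScalarTower Z A R] [IsScalarTower Z A kA] [IsScalarTower Z R kR] [IsScalarTower Z kA kR]
  [IsScalarTower Z A kR] [IsScalarTower A R kR] [IsScalarTower A kA kR]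
  [Module.Flat kA kR]

theorem locMem_of_locMem_mapMod (hA : Function.Surjective (algebraMap A kA))
    (q : Ideal (𝓜.P R)) [q.IsPrime]
    (hq : (RingHom.ker (algebraMap R kR)).map (algebraMap R (𝓜.P R)) ≤ q)
    (hR : Function.Surjective (algebraMap R kR))
    (y : 𝓜.Mod A)
    (hy : LocMem q (RingHom.ker (algebraMap R kR)) (𝓜.mapMod A R y)) :
    LocMem (q.comap (algebraMap (𝓜.P A) (𝓜.P R))) (RingHom.ker (algebraMap A kA)) y := by
  obtain ⟨t, ht, hty⟩ := hy
  -- the prime of `P kR`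
  have hsurjP : Function.Surjective (algebraMap (𝓜.P R) (𝓜.P kR)) :=
    MvPolynomial.map_surjective _ hR
  have hker : RingHom.ker (algebraMap (𝓜.P R) (𝓜.P kR)) ≤ q := by
    rw [MvPolynomial.algebraMap_def, MvPolynomial.ker_map]
    exact hq
  set qbar : Ideal (𝓜.P kR) := q.map (algebraMap (𝓜.P R) (𝓜.P kR)) with hqbar
  have hcomap : qbar.comap (algebraMap (𝓜.P R) (𝓜.P kR)) = q := by
    rw [hqbar, Ideal.comap_map_of_surjective _ hsurjP, sup_eq_left]
    exact hker
  -- `t̄ • z = 0`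
  have h0 : 𝓜.mapMod R kR (t • 𝓜.mapMod A R y) = 0 := by
    have := mapMod_mem_smul_top 𝓜 R kR _ hty
    have hbot : (RingHom.ker (algebraMap R kR)).map (algebraMap R kR) = ⊥ := by
      rw [Ideal.map_eq_bot_iff_le_ker]
    rw [hbot, Submodule.bot_smul] at this
    exact this
  rw [mapMod_smul_poly, mapMod_mapMod, ← mapMod_mapMod 𝓜 A kA kR] at h0
  set ybar : 𝓜.Mod kA := 𝓜.mapMod A kA y with hybar
  set tbar : 𝓜.P kR := MvPolynomial.map (algebraMap R kR) t with htbar
  have hbc := 𝓜.isBaseChange_mapMod kA kR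
  have h1 : tbar • ((1 : 𝓜.P kR) ⊗ₜ[𝓜.P kA] ybar) = 0 := by
    apply hbc.equiv.injective
    rw [map_smul, map_zero, IsBaseChange.equiv_tmul, one_smul]
    exact h0
  have hflat : Module.Flat (𝓜.P kA) (𝓜.P kR) :=
    Module.Flat.isBaseChange (R := kA) (S := 𝓜.P kA) (M := kR) (𝓜.P kR)
      (Algebra.IsPushout.out (R := kA) (S := 𝓜.P kA) (R' := kR) (S' := 𝓜.P kR))
  -- annihilator descent
  have hex : ∃ sbar : 𝓜.P kA, sbar • ybar = 0 ∧ algebraMap (𝓜.P kA) (𝓜.P kR) sbar ∉ qbar := by
    by_contra hcon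
    push_neg at hcon
    have := Groth.Agent.H70.FlatAbove.mem_of_smul_one_tmul_eq_zero (B' := 𝓜.P kA)
      (C' := 𝓜.P kR) ybar qbar hcon tbar h1
    apply ht
    rw [← hcomap]
    exact this
  obtain ⟨sbar, hs0, hsq⟩ := hex
  obtain ⟨s, rfl⟩ := MvPolynomial.map_surjective (σ := Fin 𝓜.r) _ hA sbar
  refine ⟨s, ?_, ?_⟩
  · intro hs
    apply hsq
    rw [Ideal.mem_comap] at hs
    have := Ideal.mem_map_of_mem (algebraMap (𝓜.P R) (𝓜.P kR)) hs
    rw [← hqbar] at this
    convert this using 1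
    simp only [MvPolynomial.algebraMap_def, MvPolynomial.map_map]
    congr 2
    rw [← IsScalarTower.algebraMap_eq, ← IsScalarTower.algebraMap_eq]
  · apply mem_smul_top_of_mapMod_eq_zero 𝓜 A kA hA
    rw [mapMod_smul_poly]
    exact hs0

end

end Groth.Agent.H56.FlatDesc
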