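import Mathlib

set_option autoImplicit false

/-!
# The local subalgebra generated by a subalgebra of a local ring (helper56)

For a subalgebra `C` of a local ring `R`, `localSub C` is the subalgebra of fractions `a / c`
with `a, c ∈ C`, `c` a unit of `R`.  It is a local ring, local over `R`, and Noetherian when `C` is.
-/

namespace Groth.Agent.H56.FlatDesc

universe u

open IsLocalRing

variable {Z R : Type u} [CommRing Z] [CommRing R] [IsLocalRing R] [Algebra Z R]

/-- Fractions `a / c` with `a, c ∈ C` and `c` a unit of `R`. -/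
def localSub (C : Subalgebra Z R) : Subalgebra Z R where
  carrier := {x | ∃ c ∈ C, IsUnit c ∧ c * x ∈ C}
  mul_mem' := by
    rintro x y ⟨c, hc, hcu, hcx⟩ ⟨d, hd, hdu, hdy⟩
    refine ⟨c * d, C.mul_mem hc hd, hcu.mul hdu, ?_⟩
    have : c * d * (x * y) = (c * x) * (d * y) := by ring
    rw [this]
    exact C.mul_mem hcx hdy
  one_mem' := ⟨1, C.one_mem, isUnit_one, by rw [mul_one]; exact C.one_mem⟩
  add_mem' := by
    rintro x y ⟨c, hc, hcu, hcx⟩ ⟨d, hd, hdu, hdy⟩
    refine ⟨c * d, C.mul_mem hc hd, hcu.mul hdu, ?_⟩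
    have : c * d * (x + y) = d * (c * x) + c * (d * y) := by ring
    rw [this]
    exact C.add_mem (C.mul_mem hd hcx) (C.mul_mem hc hdy)
  zero_mem' := ⟨1, C.one_mem, isUnit_one, by rw [mul_zero]; exact C.zero_mem⟩
  algebraMap_mem' z := ⟨1, C.one_mem, isUnit_one, by rw [one_mul]; exact C.algebraMap_mem z⟩

variable (C : Subalgebra Z R)

lemma mem_localSub {x : R} : x ∈ localSub C ↔ ∃ c ∈ C, IsUnit c ∧ c * x ∈ C := Iff.rfl

lemma le_localSub : C ≤ localSub C := fun x hx =>
  ⟨1, C.one_mem, isUnit_one, by rw [one_mul]; exact hx⟩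

lemma isUnit_localSub_iff (x : localSub C) : IsUnit x ↔ IsUnit (x : R) := by
  constructor
  · intro h
    exact h.map (localSub C).val
  · intro h
    obtain ⟨c, hc, hcu, hcx⟩ := x.2
    -- the inverse of `x` is `c / (c x)`
    have hcxu : IsUnit (c * (x : R)) := hcu.mul h
    obtain ⟨v, hv⟩ := h
    have hmem : (↑v⁻¹ : R) ∈ localSub C := by
      refine ⟨c * (x : R), hcx, hcxu, ?_⟩
      have : c * (x : R) * (↑v⁻¹ : R) = c := by
        rw [← hv, mul_assoc, Units.mul_inv, mul_one]
      rw [this]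
      exact hc
    refine IsUnit.of_mul_eq_one ⟨(↑v⁻¹ : R), hmem⟩ ?_
    apply Subtype.ext
    change (x : R) * (↑v⁻¹ : R) = 1
    rw [← hv, Units.mul_inv]

instance : IsLocalRing (localSub C) := by
  refine IsLocalRing.of_nonunits_add ?_
  intro a b ha hb
  rw [mem_nonunits_iff, isUnit_localSub_iff] at ha hb ⊢
  have ha' : (a : R) ∈ maximalIdeal R := (IsLocalRing.mem_maximalIdeal _).mpr ha
  have hb' : (b : R) ∈ maximalIdeal R := (IsLocalRing.mem_maximalIdeal _).mpr hb
  have := (maximalIdeal R).add_mem ha' hb'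
  exact (IsLocalRing.mem_maximalIdeal _).mp this

instance : IsLocalHom (algebraMap (localSub C) R) := by
  constructor
  intro a ha
  exact (isUnit_localSub_iff C a).mpr ha

lemma mem_maximalIdeal_localSub_iff (x : localSub C) :
    x ∈ maximalIdeal (localSub C) ↔ (x : R) ∈ maximalIdeal R := by
  rw [IsLocalRing.mem_maximalIdeal, IsLocalRing.mem_maximalIdeal, mem_nonunits_iff,
    mem_nonunits_iff, isUnit_localSub_iff]

theorem isNoetherianRing_localSub [IsNoetherianRing C] : IsNoetherianRing (localSub C) := by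
  classical
  rw [isNoetherianRing_iff_ideal_fg]
  intro 𝔞
  -- the contraction to `C`
  let ι : C →+* localSub C := (Subalgebra.inclusion (le_localSub C)).toRingHom
  obtain ⟨s, hs⟩ := (isNoetherianRing_iff_ideal_fg C).mp inferInstance (𝔞.comap ι)
  refine ⟨s.image ι, ?_⟩
  apply le_antisymm
  · rw [Ideal.span_le]
    intro x hx
    simp only [Finset.coe_image, Set.mem_image] at hx
    obtain ⟨y, hy, rfl⟩ := hx
    have : y ∈ 𝔞.comap ι := by rw [← hs]; exact Ideal.subset_span hy
    exact this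
  · intro x hx
    obtain ⟨c, hc, hcu, hcx⟩ := x.2
    -- `c x ∈ 𝔞 ∩ C`
    let c' : localSub C := ⟨c, le_localSub C hc⟩
    have hc'u : IsUnit c' := (isUnit_localSub_iff C c').mpr hcu
    have h1 : ι ⟨c * (x : R), hcx⟩ = c' * x := by
      apply Subtype.ext
      rfl
    have h2 : (⟨c * (x : R), hcx⟩ : C) ∈ 𝔞.comap ι := by
      rw [Ideal.mem_comap, h1]
      exact 𝔞.mul_mem_left _ hx
    rw [← hs] at h2
    have h3 : c' * x ∈ Ideal.span ((s.image ι : Finset (localSub C)) : Set (localSub C)) := by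
      rw [← h1, Finset.coe_image, ← Ideal.map_span]
      exact Ideal.mem_map_of_mem ι h2
    obtain ⟨v, hv⟩ := hc'u
    have : x = (↑v⁻¹ : localSub C) * (c' * x) := by
      rw [← mul_assoc, ← hv, Units.inv_mul, one_mul]
    rw [this]
    exact Ideal.mul_mem_left _ _ h3

end Groth.Agent.H56.FlatDesc
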