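import Mathlib
import Groth.Agent.H56.FlatDesc.LocMem
import Groth.Agent.H56.FlatDesc.PModel

set_option autoImplicit false

/-!
# The Noetherian level (helper56)

Over a Noetherian local ring `A`, for a `PModel` and a prime `q` of `P_A` lying over the maximal
ideal, with `(Mod_N A)_q` flat over `A`: injectivity modulo `𝔪_A` (locally at `q`) implies
injectivity modulo every ideal `I` of `A` (locally at `q`).  This is Stacks 00ME (in the form of
`H2.lTensor_quotient_injective_of_residue`) applied to the localized modules.
-/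

namespace Groth.Agent.H56.FlatDesc

universe u

open Groth.Agent.H1.FlatLocus IsLocalRing

attribute [local instance] MvPolynomial.algebraMvPolynomial

variable {Z : Type u} [CommRing Z] (𝓓 : PModel Z) (A : Type u) [CommRing A] [IsLocalRing A]
  [IsNoetherianRing A] [Algebra Z A] (q : Ideal (𝓓.P A)) [q.IsPrime]

theorem isLocalHom_algebraMap_localization
    (hq : q.comap (algebraMap A (𝓓.P A)) = maximalIdeal A) :
    IsLocalHom (algebraMap A (Localization.AtPrime q)) := by
  constructor
  intro a ha
  rw [IsScalarTower.algebraMap_apply A (𝓓.P A) (Localization.AtPrime q),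
    IsLocalization.AtPrime.isUnit_to_map_iff (Localization.AtPrime q) q] at ha
  by_contra hna
  apply ha
  have : a ∈ maximalIdeal A := (IsLocalRing.mem_maximalIdeal a).mpr hna
  rw [← hq] at this
  exact this

theorem noeth_level (hq : q.comap (algebraMap A (𝓓.P A)) = maximalIdeal A)
    [Module.Flat A (LocalizedModule q.primeCompl (𝓓.modelN.Mod A))]
    (H : ∀ y : 𝓓.modelM.Mod A, LocMem q (maximalIdeal A) (𝓓.uMod A y) →
      LocMem q (maximalIdeal A) y)
    (I : Ideal A) (y : 𝓓.modelM.Mod A) (hy : LocMem q I (𝓓.uMod A y)) : LocMem q I y := by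
  have hloc := isLocalHom_algebraMap_localization 𝓓 A q hq
  let M' := LocalizedModule q.primeCompl (𝓓.modelM.Mod A)
  let N' := LocalizedModule q.primeCompl (𝓓.modelN.Mod A)
  let fM := LocalizedModule.mkLinearMap q.primeCompl (𝓓.modelM.Mod A)
  let fN := LocalizedModule.mkLinearMap q.primeCompl (𝓓.modelN.Mod A)
  let u' : M' →ₗ[A] N' :=
    (IsLocalizedModule.map q.primeCompl fM fN (𝓓.uMod A)).restrictScalars A
  have hu' : ∀ z, u' (fM z) = fN (𝓓.uMod A z) := fun z =>
    IsLocalizedModule.map_apply q.primeCompl fM fN (𝓓.uMod A) z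
  -- the hypothesis modulo the maximal ideal, for the localized modules
  have hres : Function.Injective (u'.lTensor (A ⧸ maximalIdeal A)) := by
    rw [Groth.Agent.H2.lTensor_quotient_injective_iff]
    intro x hx
    obtain ⟨⟨z, s⟩, hs⟩ := IsLocalizedModule.surj q.primeCompl fM x
    have hs' : s.1 • x = fM z := hs
    have h1 : u' (fM z) ∈ (maximalIdeal A • ⊤ : Submodule A N') := by
      rw [← hs']
      have : u' (s.1 • x) = s.1 • u' x :=
        (IsLocalizedModule.map q.primeCompl fM fN (𝓓.uMod A)).map_smul s.1 x
      rw [this]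
      exact smul_mem_smul_top _ _ hx
    rw [hu', mem_smul_top_iff_locMem q fN] at h1
    have h2 := H z h1
    rw [← mem_smul_top_iff_locMem q fM, ← hs'] at h2
    -- `s` acts invertibly
    have hunit := IsLocalizedModule.map_units fM s
    obtain ⟨e, he⟩ := hunit
    have h3 : (e⁻¹ : (Module.End (𝓓.P A) M')ˣ).1 (s.1 • x) = x := by
      have : s.1 • x = e.1 x := by rw [he]; rfl
      rw [this]
      change ((e⁻¹ : (Module.End (𝓓.P A) M')ˣ).1 * e.1) x = x
      rw [Units.inv_mul]
      rfl
    rw [← h3]
    have := Submodule.smul_top_le_comap_smul_top (maximalIdeal A)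
      (((e⁻¹ : (Module.End (𝓓.P A) M')ˣ).1).restrictScalars A) h2
    simpa using this
  have hmain := Groth.Agent.H2.lTensor_quotient_injective_of_residue
    (R := A) (M := N') (N := M') (Localization.AtPrime q) u' hres I
  rw [Groth.Agent.H2.lTensor_quotient_injective_iff] at hmain
  rw [← mem_smul_top_iff_locMem q fM]
  apply hmain
  rw [hu', mem_smul_top_iff_locMem q fN]
  exact hy

end Groth.Agent.H56.FlatDesc
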