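import Mathlib
import Groth.Agent.H56.FlatDesc.Fibre
import Groth.Agent.H56.FlatDesc.NoethLevel
import Groth.Agent.H56.FlatDesc.LocalSub
import Groth.Agent.H1.FlatLocusGlobal

set_option autoImplicit false

/-!
# Stacks 046Y in model form (helper56)

`R` a local ring (not necessarily Noetherian), a `PModel` over a Noetherian ring `Z → R`, `q` a
prime of `P_R` over `𝔪_R` with `(Mod_N R)_q` flat over `R`.  If `u : Mod_M R → Mod_N R` is injective
modulo `𝔪_R` locally at `q`, it is injective modulo every ideal of `R` locally at `q`.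
-/

namespace Groth.Agent.H56.FlatDesc

universe u

open Groth.Agent.H1.FlatLocus IsLocalRing

attribute [local instance] MvPolynomial.algebraMvPolynomial

section push

variable {Z : Type u} [CommRing Z] (𝓜 : Model Z)
  (C C' : Type u) [CommRing C] [CommRing C'] [Algebra C C'] [Algebra Z C] [Algebra Z C']
  [IsScalarTower Z C C']

/-- Local membership is preserved by base change. -/
theorem LocMem.mapMod (q' : Ideal (𝓜.P C')) (I : Ideal C) {y : 𝓜.Mod C}
    (hy : LocMem (q'.comap (algebraMap (𝓜.P C) (𝓜.P C'))) I y) :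
    LocMem q' (I.map (algebraMap C C')) (𝓜.mapMod C C' y) := by
  obtain ⟨t, ht, hty⟩ := hy
  refine ⟨MvPolynomial.map (algebraMap C C') t, ht, ?_⟩
  rw [← mapMod_smul_poly]
  exact mapMod_mem_smul_top 𝓜 C C' I hty

end push

variable {Z : Type u} [CommRing Z] (𝓓 : PModel Z) (R : Type u) [CommRing R]
  [IsLocalRing R] [Algebra Z R] (q : Ideal (𝓓.P R)) [q.IsPrime]

section level

variable (A : Subalgebra Z R) [IsLocalRing A] [IsLocalHom (algebraMap A R)]

include q in
theorem comap_eq_maximalIdeal (hq : (maximalIdeal R).map (algebraMap R (𝓓.P R)) ≤ q) :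
    (q.comap (algebraMap (𝓓.P A) (𝓓.P R))).comap (algebraMap A (𝓓.P A)) = maximalIdeal A := by
  ext a
  rw [Ideal.mem_comap, Ideal.mem_comap]
  have e : algebraMap (𝓓.P A) (𝓓.P R) (algebraMap A (𝓓.P A) a) =
      algebraMap R (𝓓.P R) (a : R) := by
    simp only [MvPolynomial.algebraMap_def, MvPolynomial.algebraMap_eq, MvPolynomial.map_C]
    rfl
  rw [e]
  constructor
  · intro h
    by_contra hna
    have hu : IsUnit a := by
      by_contra hnu
      exact hna ((IsLocalRing.mem_maximalIdeal a).mpr hnu)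
    have hu' : IsUnit (algebraMap R (𝓓.P R) (a : R)) :=
      (hu.map (algebraMap A R)).map (algebraMap R (𝓓.P R))
    exact (Ideal.IsPrime.ne_top inferInstance) (Ideal.eq_top_of_isUnit_mem q h hu')
  · intro h
    apply hq
    apply Ideal.mem_map_of_mem
    have hnu : ¬ IsUnit a := (IsLocalRing.mem_maximalIdeal a).mp h
    rw [IsLocalRing.mem_maximalIdeal, mem_nonunits_iff]
    intro hu
    exact hnu (IsLocalHom.map_nonunit (f := algebraMap A R) a hu)

theorem level_H (hq : (maximalIdeal R).map (algebraMap R (𝓓.P R)) ≤ q)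
    (H : ∀ y : 𝓓.modelM.Mod R, LocMem q (maximalIdeal R) (𝓓.uMod R y) →
      LocMem q (maximalIdeal R) y)
    (y : 𝓓.modelM.Mod A)
    (hy : LocMem (q.comap (algebraMap (𝓓.P A) (𝓓.P R))) (maximalIdeal A) (𝓓.uMod A y)) :
    LocMem (q.comap (algebraMap (𝓓.P A) (𝓓.P R))) (maximalIdeal A) y := by
  have h1 := LocMem.mapMod 𝓓.modelN A R q (maximalIdeal A) hy
  rw [PModel.mapMod_uMod] at h1
  have hle : (maximalIdeal A).map (algebraMap A R) ≤ maximalIdeal R :=
    ((IsLocalRing.local_hom_TFAE (algebraMap A R)).out 0 2).mp ‹_›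
  have h2 := H _ (h1.mono hle)
  have htower : IsScalarTower A (ResidueField A) (ResidueField R) :=
    IsScalarTower.of_algebraMap_eq fun x => rfl
  have hkR : RingHom.ker (algebraMap R (ResidueField R)) = maximalIdeal R :=
    IsLocalRing.ker_residue (R := R)
  have hkA : RingHom.ker (algebraMap A (ResidueField A)) = maximalIdeal A :=
    IsLocalRing.ker_residue (R := A)
  have := locMem_of_locMem_mapMod 𝓓.modelM A R (ResidueField A) (ResidueField R)
    Ideal.Quotient.mk_surjective q (by rw [hkR]; exact hq) Ideal.Quotient.mk_surjective y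
    (by rw [hkR]; exact h2)
  rw [hkA] at this
  exact this

end level

variable [IsNoetherianRing Z]

theorem main_model (hq : (maximalIdeal R).map (algebraMap R (𝓓.P R)) ≤ q)
    [Module.Flat R (LocalizedModule q.primeCompl (𝓓.modelN.Mod R))]
    (H : ∀ y : 𝓓.modelM.Mod R, LocMem q (maximalIdeal R) (𝓓.uMod R y) →
      LocMem q (maximalIdeal R) y)
    (I : Ideal R) (y : 𝓓.modelM.Mod R) (hy : LocMem q I (𝓓.uMod R y)) : LocMem q I y := by
  classical
  obtain ⟨x, rfl⟩ := Submodule.Quotient.mk_surjective _ y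
  obtain ⟨t, ht, hty⟩ := hy
  rw [PModel.uMod_mk, ← Submodule.Quotient.mk_smul] at hty
  -- a representative `w ∈ I • F` of `t • u x`
  have hrep : ∀ z ∈ (I • ⊤ : Submodule R (𝓓.modelN.Mod R)),
      ∃ w ∈ (I • ⊤ : Submodule R (𝓓.modelN.F R)),
        (Submodule.Quotient.mk w : 𝓓.modelN.Mod R) = z := by
    intro z hz
    refine Submodule.smul_induction_on hz ?_ ?_
    · intro a ha z₀ _
      obtain ⟨f₀, rfl⟩ := Submodule.Quotient.mk_surjective _ z₀
      exact ⟨a • f₀, Submodule.smul_mem_smul ha trivial, rfl⟩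
    · rintro z₁ z₂ ⟨w₁, hw₁, rfl⟩ ⟨w₂, hw₂, rfl⟩
      exact ⟨w₁ + w₂, Submodule.add_mem _ hw₁ hw₂, rfl⟩
  obtain ⟨w, hw, hwe⟩ := hrep _ hty
  have hwe' : (Submodule.Quotient.mk w : 𝓓.modelN.Mod R) =
      Submodule.Quotient.mk (t • 𝓓.uF R x) := hwe
  rw [Submodule.Quotient.eq, ← neg_mem_iff, neg_sub, Model.K,
    Submodule.mem_span_range_iff_exists_fun] at hwe'
  obtain ⟨c, hc⟩ := hwe'
  have hwcoef : ∀ i m, (w i).coeff m ∈ I := by
    rw [← Groth.Agent.H2.mem_map_smul_top_iff (S := 𝓓.P R)] at hw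
    exact (𝓓.modelN.mem_smulTop_iff_coeff R I w).mp hw
  -- the finite set of coefficients
  obtain ⟨Sg, hSg⟩ := 𝓓.modelN.exists_finset_forall_flat R q
  let S0 : Finset R := Sg ∪ t.coeffs ∪ (Finset.univ.biUnion fun i => (x i).coeffs) ∪
    (Finset.univ.biUnion fun i => (w i).coeffs) ∪ (Finset.univ.biUnion fun j => (c j).coeffs)
  let C : Subalgebra Z R := Algebra.adjoin Z (S0 : Set R)
  have hCfg : C.FG := ⟨S0, rfl⟩
  have hft : Algebra.FiniteType Z C := (Subalgebra.fg_iff_finiteType C).mp hCfg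
  have hCnoeth : IsNoetherianRing C := Algebra.FiniteType.isNoetherianRing Z C
  have hSgC : (Sg : Set R) ⊆ C := fun a ha => Algebra.subset_adjoin (by
    simp only [S0, Finset.coe_union, Set.mem_union]
    exact Or.inl (Or.inl (Or.inl (Or.inl ha))))
  have hflatC := hSg C hSgC hCfg
  let A : Subalgebra Z R := localSub C
  have hCA : C ≤ A := le_localSub C
  have hAnoeth : IsNoetherianRing A := isNoetherianRing_localSub C
  have hflatA := 𝓓.modelN.flat_comap_of_le hCA q hflatC
  set qA : Ideal (𝓓.P A) := q.comap (algebraMap (𝓓.P A) (𝓓.P R)) with hqA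
  have hinj : Function.Injective (algebraMap A R) := Subtype.val_injective
  -- lifting polynomials
  have hlift : ∀ f : 𝓓.P R, (f.coeffs : Set R) ⊆ C →
      ∃ f' : 𝓓.P A, MvPolynomial.map (algebraMap A R) f' = f := by
    intro f hf
    exact MvPolynomial.mem_range_map_iff_coeffs_subset.mpr
      (fun a ha => ⟨⟨a, hCA (hf ha)⟩, rfl⟩)
  obtain ⟨t', ht'⟩ := hlift t (fun a ha => Algebra.subset_adjoin (by
    simp only [S0, Finset.coe_union, Set.mem_union]
    exact Or.inl (Or.inl (Or.inl (Or.inr ha)))))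
  have hx' : ∀ i, ∃ f' : 𝓓.P A, MvPolynomial.map (algebraMap A R) f' = x i := fun i =>
    hlift (x i) (fun a ha => Algebra.subset_adjoin (by
      simp only [S0, Finset.coe_union, Set.mem_union, Finset.coe_biUnion, Set.mem_iUnion]
      exact Or.inl (Or.inl (Or.inr ⟨i, Finset.mem_coe.mpr (Finset.mem_univ i), ha⟩))))
  have hw' : ∀ i, ∃ f' : 𝓓.P A, MvPolynomial.map (algebraMap A R) f' = w i := fun i =>
    hlift (w i) (fun a ha => Algebra.subset_adjoin (by
      simp only [S0, Finset.coe_union, Set.mem_union, Finset.coe_biUnion, Set.mem_iUnion]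
      exact Or.inl (Or.inr ⟨i, Finset.mem_coe.mpr (Finset.mem_univ i), ha⟩)))
  have hc' : ∀ j, ∃ f' : 𝓓.P A, MvPolynomial.map (algebraMap A R) f' = c j := fun j =>
    hlift (c j) (fun a ha => Algebra.subset_adjoin (by
      simp only [S0, Finset.coe_union, Set.mem_union, Finset.coe_biUnion, Set.mem_iUnion]
      exact Or.inr ⟨j, Finset.mem_coe.mpr (Finset.mem_univ j), ha⟩))
  choose x' hx' using hx'
  choose w' hw' using hw'
  choose c' hc' using hc'
  have hmx : 𝓓.modelM.mapF A R x' = x := by ext i : 1; exact hx' i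
  have hmw : 𝓓.modelN.mapF A R w' = w := by ext i : 1; exact hw' i
  -- the equation over `A`
  have heq : ∑ j, c' j • 𝓓.modelN.gen A j = t' • 𝓓.uF A x' - w' := by
    apply 𝓓.modelN.mapF_injective A R hinj
    rw [map_sub, map_sum, Model.mapF_smul_poly', PModel.mapF_uF, hmx, hmw, ht', ← hc]
    refine Finset.sum_congr rfl fun j _ => ?_
    rw [Model.mapF_smul_poly', hc' j, Model.mapF_gen]
  set IA : Ideal A := I.comap (algebraMap A R) with hIA
  have hw'mem : w' ∈ (IA • ⊤ : Submodule A (𝓓.modelN.F A)) := by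
    rw [← Groth.Agent.H2.mem_map_smul_top_iff (S := 𝓓.P A)]
    refine (𝓓.modelN.mem_smulTop_iff_coeff A IA w').mpr ?_
    intro i m
    rw [hIA, Ideal.mem_comap]
    have := hwcoef i m
    rw [← hw' i, MvPolynomial.coeff_map] at this
    exact this
  have hlocA : LocMem qA IA (𝓓.uMod A (Submodule.Quotient.mk x')) := by
    refine ⟨t', ?_, ?_⟩
    · rw [hqA, Ideal.mem_comap, MvPolynomial.algebraMap_def, ht']
      exact ht
    · rw [PModel.uMod_mk, ← Submodule.Quotient.mk_smul]
      have e : (Submodule.Quotient.mk (t' • 𝓓.uF A x') : 𝓓.modelN.Mod A) =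
          Submodule.Quotient.mk w' := by
        rw [Submodule.Quotient.eq, ← heq]
        exact Submodule.sum_mem _ fun j _ =>
          Submodule.smul_mem _ _ (Submodule.subset_span ⟨j, rfl⟩)
      rw [e]
      have := Submodule.smul_top_le_comap_smul_top IA
        ((𝓓.modelN.K A).mkQ.restrictScalars A) hw'mem
      simpa using this
  have hqA' := comap_eq_maximalIdeal 𝓓 R q A hq
  have := hflatA
  have hA := noeth_level 𝓓 A qA hqA' (level_H 𝓓 R q A hq H) IA _ hlocA
  have hpush := LocMem.mapMod 𝓓.modelM A R q IA hA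
  rw [Model.mapMod_mk, hmx] at hpush
  exact hpush.mono Ideal.map_comap_le

end Groth.Agent.H56.FlatDesc
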