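import Mathlib
import Groth.Agent.H56.FlatDesc.Main

set_option autoImplicit false

/-!
# Stacks 046Y for modules presented by a `PModel` (helper56)

Abstract modules `M`, `N` which are localizations at a prime `q` of the modules of a `PModel`.
-/

namespace Groth.Agent.H56.FlatDesc

universe u

open Groth.Agent.H1.FlatLocus IsLocalRing

attribute [local instance] MvPolynomial.algebraMvPolynomial

section

variable {A P : Type*} [CommRing A] [CommRing P] [Algebra A P]
  {X : Type*} [AddCommGroup X] [Module A X] [Module P X] [IsScalarTower A P X]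
  {X' : Type*} [AddCommGroup X'] [Module A X'] [Module P X'] [IsScalarTower A P X']

/-- Elements outside `q` act invertibly on a localization, compatibly with `I • ⊤`. -/
theorem mem_smul_top_of_smul_mem (q : Ideal P) [q.IsPrime] (f : X →ₗ[P] X')
    [IsLocalizedModule q.primeCompl f] (I : Ideal A) {s : P} (hs : s ∉ q) {x : X'}
    (h : s • x ∈ (I • ⊤ : Submodule A X')) : x ∈ (I • ⊤ : Submodule A X') := by
  obtain ⟨e, he⟩ := IsLocalizedModule.map_units f (⟨s, hs⟩ : q.primeCompl)
  have h3 : (e⁻¹ : (Module.End P X')ˣ).1 (s • x) = x := by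
    have : s • x = e.1 x := by rw [he]; rfl
    rw [this]
    change ((e⁻¹ : (Module.End P X')ˣ).1 * e.1) x = x
    rw [Units.inv_mul]
    rfl
  rw [← h3]
  have := Submodule.smul_top_le_comap_smul_top I
    (((e⁻¹ : (Module.End P X')ˣ).1).restrictScalars A) h
  simpa using this

end

variable {Z : Type u} [CommRing Z] [IsNoetherianRing Z] (𝓓 : PModel Z) (R : Type u) [CommRing R]
  [IsLocalRing R] [Algebra Z R] (q : Ideal (𝓓.P R)) [q.IsPrime]

theorem main_abstract (hq : (maximalIdeal R).map (algebraMap R (𝓓.P R)) ≤ q)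
    {M N : Type u} [AddCommGroup M] [Module R M] [Module (𝓓.P R) M]
    [IsScalarTower R (𝓓.P R) M] [AddCommGroup N] [Module R N] [Module (𝓓.P R) N]
    [IsScalarTower R (𝓓.P R) N]
    (νM : 𝓓.modelM.Mod R →ₗ[𝓓.P R] M) [IsLocalizedModule q.primeCompl νM]
    (νN : 𝓓.modelN.Mod R →ₗ[𝓓.P R] N) [IsLocalizedModule q.primeCompl νN]
    (u : M →ₗ[𝓓.P R] N) (hcomm : ∀ y, u (νM y) = νN (𝓓.uMod R y))
    [Module.Flat R N]
    (hyp : ∀ x : M, u x ∈ (maximalIdeal R • ⊤ : Submodule R N) →
      x ∈ (maximalIdeal R • ⊤ : Submodule R M))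
    (I : Ideal R) (x : M) (hx : u x ∈ (I • ⊤ : Submodule R N)) :
    x ∈ (I • ⊤ : Submodule R M) := by
  have hflat : Module.Flat R (LocalizedModule q.primeCompl (𝓓.modelN.Mod R)) :=
    Module.Flat.of_linearEquiv ((IsLocalizedModule.iso q.primeCompl νN).restrictScalars R)
  have H : ∀ y : 𝓓.modelM.Mod R, LocMem q (maximalIdeal R) (𝓓.uMod R y) →
      LocMem q (maximalIdeal R) y := by
    intro y hy
    rw [← mem_smul_top_iff_locMem q νN, ← hcomm] at hy
    rw [← mem_smul_top_iff_locMem q νM]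
    exact hyp _ hy
  obtain ⟨⟨y, s⟩, hs⟩ := IsLocalizedModule.surj q.primeCompl νM x
  have hs' : s.1 • x = νM y := hs
  have h1 : νN (𝓓.uMod R y) ∈ (I • ⊤ : Submodule R N) := by
    rw [← hcomm, ← hs', map_smul]
    exact smul_mem_smul_top I s.1 hx
  rw [mem_smul_top_iff_locMem q νN] at h1
  have h2 := main_model 𝓓 R q hq H I y h1
  rw [← mem_smul_top_iff_locMem q νM, ← hs'] at h2
  exact mem_smul_top_of_smul_mem q νM I s.2 h2

end Groth.Agent.H56.FlatDesc
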