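import Mathlib

set_option autoImplicit false

/-!
# Presenting a finitely presented module over a localization of a quotient (helper56)

`P → S` a ring map which is "a localization of a quotient": a submonoid `T` of `P` maps to units,
every element of `S` is a fraction, and the kernel is `T`-locally a finitely generated ideal `J`.
Then every finitely presented `S`-module is the localization at `T` of a finitely presented
`P`-module given by explicit generators and relations.
-/

namespace Groth.Agent.H56.FlatDesc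

universe u

section den

variable {P S : Type*} [CommRing P] [CommRing S] [Algebra P S] (T : Submonoid P)

/-- Common denominators. -/
theorem exists_common_den
    (hsurj : ∀ s : S, ∃ p t, t ∈ T ∧ s * algebraMap P S t = algebraMap P S p)
    {ι : Type*} [Fintype ι] (v : ι → S) :
    ∃ t ∈ T, ∀ i, ∃ p, v i * algebraMap P S t = algebraMap P S p := by
  classical
  choose p t ht hpt using fun i => hsurj (v i)
  refine ⟨∏ i, t i, Submonoid.prod_mem T fun i _ => ht i, fun i => ?_⟩
  refine ⟨p i * ∏ j ∈ Finset.univ.erase i, t j, ?_⟩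
  rw [← Finset.mul_prod_erase Finset.univ t (Finset.mem_univ i), map_mul, map_mul, ← mul_assoc,
    hpt i]

/-- Common multipliers into an ideal. -/
theorem exists_common_mul_mem (J : Ideal P) {ι : Type*} [Fintype ι] (v : ι → P)
    (h : ∀ i, ∃ t ∈ T, t * v i ∈ J) : ∃ t ∈ T, ∀ i, t * v i ∈ J := by
  classical
  choose t ht htv using h
  refine ⟨∏ i, t i, Submonoid.prod_mem T fun i _ => ht i, fun i => ?_⟩
  rw [← Finset.mul_prod_erase Finset.univ t (Finset.mem_univ i), mul_comm (t i), mul_assoc]
  exact J.mul_mem_left _ (htv i)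

end den

section present

variable {P S : Type u} [CommRing P] [CommRing S] [Algebra P S] (T : Submonoid P)

theorem exists_presentation_of_finitePresentation
    (hu : ∀ t ∈ T, IsUnit (algebraMap P S t))
    (hsurj : ∀ s : S, ∃ p t, t ∈ T ∧ s * algebraMap P S t = algebraMap P S p)
    (J : Ideal P) (hJ : J.FG) (hJle : ∀ p ∈ J, algebraMap P S p = 0)
    (hker : ∀ p, algebraMap P S p = 0 → ∃ t ∈ T, t * p ∈ J)
    (N : Type u) [AddCommGroup N] [Module S N] [Module P N] [IsScalarTower P S N]
    [Module.FinitePresentation S N] :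
    ∃ (n m : ℕ) (G : Fin m → Fin n → P)
      (ν : ((Fin n → P) ⧸ Submodule.span P (Set.range G)) →ₗ[P] N),
      IsLocalizedModule T ν := by
  classical
  obtain ⟨n, a, f, g, hf, hfg⟩ := Module.FinitePresentation.exists_fin' S N
  -- the generators of the kernel
  let k : Fin a → Fin n → S := fun j => g (fun j' => if j = j' then 1 else 0)
  have hgk : ∀ c : Fin a → S, g c = ∑ j, c j • k j := by
    intro c
    conv_lhs => rw [pi_eq_sum_univ c]
    rw [map_sum]
    refine Finset.sum_congr rfl fun j _ => ?_
    rw [map_smul]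
  obtain ⟨t, htT, hden⟩ := exists_common_den T hsurj (fun ji : Fin a × Fin n => k ji.1 ji.2)
  choose G₁ hG₁ using hden
  obtain ⟨b, jgen, hjgen⟩ := Submodule.fg_iff_exists_fin_generating_family.mp hJ
  let ι := Fin a ⊕ (Fin b × Fin n)
  let G' : ι → Fin n → P :=
    Sum.elim (fun j i => G₁ (j, i)) (fun li => Pi.single li.2 (jgen li.1))
  let e := Fintype.equivFin ι
  let G : Fin (Fintype.card ι) → Fin n → P := G' ∘ e.symm
  have hrange : Set.range G = Set.range G' := by
    ext x
    constructor
    · rintro ⟨j, rfl⟩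
      exact ⟨e.symm j, rfl⟩
    · rintro ⟨j, rfl⟩
      exact ⟨e j, by simp [G]⟩
  -- the map from the free module
  let ψF : (Fin n → P) →ₗ[P] (Fin n → S) := (Algebra.linearMap P S).compLeft (Fin n)
  have hψF : ∀ x i, ψF x i = algebraMap P S (x i) := fun x i => rfl
  let π : (Fin n → P) →ₗ[P] N := (f.restrictScalars P) ∘ₗ ψF
  have hπ : ∀ x, π x = f (ψF x) := fun x => rfl
  have hψG₁ : ∀ j, ψF (G' (Sum.inl j)) = algebraMap P S t • k j := by
    intro j
    ext i
    rw [hψF, Pi.smul_apply, smul_eq_mul, mul_comm]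
    exact (hG₁ (j, i)).symm
  have hπG' : ∀ j, π (G' j) = 0 := by
    rintro (j | ⟨l, i⟩)
    · rw [hπ, hψG₁, map_smul]
      have : f (k j) = 0 := hfg.apply_apply_eq_zero _
      rw [this, smul_zero]
    · have : ψF (G' (Sum.inr (l, i))) = 0 := by
        ext i'
        rw [hψF]
        change algebraMap P S ((Pi.single i (jgen l) : Fin n → P) i') = 0
        by_cases h : i' = i
        · subst h
          rw [Pi.single_eq_same]
          apply hJle
          rw [← hjgen]
          exact Submodule.subset_span ⟨l, rfl⟩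
        · rw [Pi.single_eq_of_ne h, map_zero]
      rw [hπ, this, map_zero]
  set K : Submodule P (Fin n → P) := Submodule.span P (Set.range G) with hK
  have hKle : K ≤ LinearMap.ker π := by
    rw [hK, hrange, Submodule.span_le]
    rintro _ ⟨j, rfl⟩
    exact hπG' j
  have hG'K : ∀ j, G' j ∈ K := fun j => by
    rw [hK, hrange]
    exact Submodule.subset_span ⟨j, rfl⟩
  -- vectors with coordinates in `J` lie in `K`
  have hJK : ∀ d : Fin n → P, (∀ i, d i ∈ J) → d ∈ K := by
    intro d hd
    rw [← Finset.univ_sum_single d]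
    refine Submodule.sum_mem _ fun i _ => ?_
    have hdi := hd i
    rw [← hjgen] at hdi
    have hle : Submodule.map (LinearMap.single P (fun _ : Fin n => P) i)
        (Submodule.span P (Set.range jgen)) ≤ K := by
      rw [Submodule.map_span, Submodule.span_le]
      rintro _ ⟨_, ⟨l, rfl⟩, rfl⟩
      exact hG'K (Sum.inr (l, i))
    exact hle ⟨d i, hdi, rfl⟩
  let ν : ((Fin n → P) ⧸ K) →ₗ[P] N := K.liftQ π hKle
  have hν : ∀ x, ν (Submodule.Quotient.mk x) = π x := fun x => rfl
  have hTsmul : ∀ (c : P) (y : N), c • y = algebraMap P S c • y := fun c y =>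
    (algebraMap_smul S c y).symm
  refine ⟨n, Fintype.card ι, G, ν, ?_, ?_, ?_⟩
  · -- units
    intro s
    rw [Module.End.isUnit_iff]
    constructor
    · intro y₁ y₂ h
      simp only [Module.algebraMap_end_apply] at h
      rw [hTsmul, hTsmul] at h
      exact (hu s.1 s.2).smul_left_cancel.mp h
    · intro y
      obtain ⟨v, hv⟩ := hu s.1 s.2
      refine ⟨(↑v⁻¹ : S) • y, ?_⟩
      simp only [Module.algebraMap_end_apply]
      rw [hTsmul, ← hv, smul_smul, Units.mul_inv, one_smul]
  · -- surjectivity
    intro y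
    obtain ⟨v, rfl⟩ := hf y
    obtain ⟨t', ht', hden'⟩ := exists_common_den T hsurj v
    choose p hp using hden'
    refine ⟨⟨Submodule.Quotient.mk p, ⟨t', ht'⟩⟩, ?_⟩
    change t' • f v = ν (Submodule.Quotient.mk p)
    rw [hν, hπ, hTsmul, ← map_smul]
    congr 1
    ext i
    rw [hψF, Pi.smul_apply, smul_eq_mul, mul_comm]
    exact hp i
  · -- kernel
    intro x₁ x₂ h
    obtain ⟨p₁, rfl⟩ := Submodule.Quotient.mk_surjective _ x₁
    obtain ⟨p₂, rfl⟩ := Submodule.Quotient.mk_surjective _ x₂
    rw [hν, hν, ← sub_eq_zero, ← map_sub, hπ] at h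
    set p := p₁ - p₂ with hp
    obtain ⟨c₀, hc₀⟩ := (hfg (ψF p)).mp h
    rw [hgk] at hc₀
    obtain ⟨t', ht', hden'⟩ := exists_common_den T hsurj c₀
    choose c hc using hden'
    -- the vector whose image vanishes
    let d₀ : Fin n → P := (t' * t) • p - ∑ j, c j • G' (Sum.inl j)
    have hd₀ : ∀ i, algebraMap P S (d₀ i) = 0 := by
      intro i
      have hpi : algebraMap P S (p i) = ∑ j, c₀ j * k j i := by
        have := congrFun hc₀ i
        simp only [Finset.sum_apply, Pi.smul_apply, smul_eq_mul] at this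
        rw [← hψF, ← this]
      have hGi : ∀ j, algebraMap P S (G' (Sum.inl j) i) = k j i * algebraMap P S t :=
        fun j => (hG₁ (j, i)).symm
      have hd₀i : d₀ i = (t' * t) * p i - ∑ j, c j * G' (Sum.inl j) i := by
        simp only [d₀, Pi.sub_apply, Finset.sum_apply, Pi.smul_apply, smul_eq_mul]
      rw [hd₀i, map_sub, map_mul, map_mul, map_sum, hpi, sub_eq_zero, Finset.mul_sum]
      refine Finset.sum_congr rfl fun j _ => ?_
      rw [map_mul, hGi, ← hc j]
      ring
    obtain ⟨t'', ht'', hd⟩ := exists_common_mul_mem T J d₀ (fun i => hker _ (hd₀ i))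
    have hdK : t'' • d₀ ∈ K := hJK _ (fun i => by
      rw [Pi.smul_apply, smul_eq_mul]
      exact hd i)
    refine ⟨⟨t'' * (t' * t), T.mul_mem ht'' (T.mul_mem ht' htT)⟩, ?_⟩
    change (t'' * (t' * t)) • (Submodule.Quotient.mk p₁ : (Fin n → P) ⧸ K) =
      (t'' * (t' * t)) • Submodule.Quotient.mk p₂
    rw [← Submodule.Quotient.mk_smul, ← Submodule.Quotient.mk_smul, Submodule.Quotient.eq,
      ← smul_sub, ← hp]
    have : (t'' * (t' * t)) • p = t'' • d₀ + t'' • ∑ j, c j • G' (Sum.inl j) := by
      rw [← smul_add, sub_add_cancel, mul_smul]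
    rw [this]
    exact K.add_mem hdK (K.smul_mem _ (Submodule.sum_mem _ fun j _ => K.smul_mem _ (hG'K _)))

end present

end Groth.Agent.H56.FlatDesc
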