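import Mathlib
import Groth.Agent.H56.FlatDesc.Abstract
import Groth.Agent.H56.FlatDesc.Present

set_option autoImplicit false

/-!
# Stacks 046Y (helper56)

`R → S` a local homomorphism of local rings with `S` essentially of finite presentation over `R`
(a localization of a finitely presented `R`-algebra `S₀`), `M`, `N` finitely presented
`S`-modules, `N` flat over `R`, `u : M → N` an `S`-linear map injective modulo `𝔪_R`.
Then `u` is injective modulo every ideal of `R`; in particular `u` is injective and `Coker u` is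
flat over `R`.  No Noetherian hypotheses.
-/

namespace Groth.Agent.H56.FlatDesc

universe u

open Groth.Agent.H1.FlatLocus IsLocalRing Function

attribute [local instance] MvPolynomial.algebraMvPolynomial

/-- From injectivity modulo all ideals to injectivity and flatness of the cokernel. -/
theorem injective_and_flat_of_forall_ideal {R : Type u} [CommRing R] {M N Q : Type u}
    [AddCommGroup M] [Module R M] [AddCommGroup N] [Module R N] [AddCommGroup Q] [Module R Q]
    [Module.Flat R N] (u : M →ₗ[R] N) (g : N →ₗ[R] Q) (hug : Exact u g) (hg : Surjective g)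
    (h : ∀ (I : Ideal R) (x : M), u x ∈ (I • ⊤ : Submodule R N) → x ∈ (I • ⊤ : Submodule R M)) :
    Injective u ∧ Module.Flat R Q := by
  have hinj : Injective u := by
    rw [injective_iff_map_eq_zero]
    intro x hx
    have := h ⊥ x (by rw [hx]; exact Submodule.zero_mem _)
    rw [Submodule.bot_smul] at this
    exact this
  refine ⟨hinj, ?_⟩
  apply Groth.Agent.H2.flat_of_forall_tor1Zero_quotient
  intro I
  rw [Groth.Agent.H2.tor1Zero_iff_right u g hinj hug hg,
    Groth.Agent.H2.lTensor_quotient_injective_iff]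
  exact h I

section main

variable {R S : Type u} [CommRing R] [CommRing S] [IsLocalRing R] [IsLocalRing S] [Algebra R S]
  [IsLocalHom (algebraMap R S)]
  (S₀ : Type u) [CommRing S₀] [Algebra R S₀] [Algebra S₀ S] [IsScalarTower R S₀ S]
  (T₀ : Submonoid S₀) [Algebra.FinitePresentation R S₀] [IsLocalization T₀ S]
  {M N : Type u} [AddCommGroup M] [Module S M] [Module R M] [IsScalarTower R S M]
  [Module.FinitePresentation S M]
  [AddCommGroup N] [Module S N] [Module R N] [IsScalarTower R S N]
  [Module.FinitePresentation S N] [Module.Flat R N]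

include S₀ T₀ in
theorem mem_smul_top_of_essFinitePresentation (u : M →ₗ[S] N)
    (hu : ∀ x : M, u x ∈ (maximalIdeal R • ⊤ : Submodule R N) →
      x ∈ (maximalIdeal R • ⊤ : Submodule R M))
    (I : Ideal R) (x : M) (hx : u x ∈ (I • ⊤ : Submodule R N)) :
    x ∈ (I • ⊤ : Submodule R M) := by
  classical
  -- Step 1: the polynomial ring and the prime
  obtain ⟨r, φ, hφsurj, hφker⟩ := Algebra.FinitePresentation.out (R := R) (A := S₀)
  let P := MvPolynomial (Fin r) R
  let ψ : P →ₐ[R] S := (IsScalarTower.toAlgHom R S₀ S).comp φ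
  have hψ : ∀ p, ψ p = algebraMap S₀ S (φ p) := fun p => rfl
  letI algPS : Algebra P S := ψ.toRingHom.toAlgebra
  have halg : ∀ p : P, algebraMap P S p = ψ p := fun p => rfl
  haveI towRPS : IsScalarTower R P S := IsScalarTower.of_algebraMap_eq fun a => by
    rw [halg, AlgHom.commutes]
  letI modPM : Module P M := Module.compHom M ψ.toRingHom
  letI modPN : Module P N := Module.compHom N ψ.toRingHom
  haveI towPSM : IsScalarTower P S M := IsScalarTower.of_algebraMap_smul fun p x => rfl
  haveI towPSN : IsScalarTower P S N := IsScalarTower.of_algebraMap_smul fun p x => rfl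
  haveI towRPM : IsScalarTower R P M := IsScalarTower.of_algebraMap_smul fun a x => by
    rw [← algebraMap_smul S (algebraMap R P a) x, ← IsScalarTower.algebraMap_apply,
      algebraMap_smul]
  haveI towRPN : IsScalarTower R P N := IsScalarTower.of_algebraMap_smul fun a x => by
    rw [← algebraMap_smul S (algebraMap R P a) x, ← IsScalarTower.algebraMap_apply,
      algebraMap_smul]
  let q : Ideal P := (maximalIdeal S).comap (algebraMap P S)
  haveI hqprime : q.IsPrime := Ideal.comap_isPrime _ _
  have hq : (maximalIdeal R).map (algebraMap R P) ≤ q := by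
    rw [Ideal.map_le_iff_le_comap]
    intro a ha
    rw [Ideal.mem_comap, Ideal.mem_comap, ← IsScalarTower.algebraMap_apply]
    have hle : (maximalIdeal R).map (algebraMap R S) ≤ maximalIdeal S :=
      ((IsLocalRing.local_hom_TFAE (algebraMap R S)).out 0 2).mp ‹_›
    exact hle (Ideal.mem_map_of_mem _ ha)
  let T : Submonoid P := q.primeCompl
  have hTu : ∀ t ∈ T, IsUnit (algebraMap P S t) := by
    intro t ht
    by_contra hnu
    exact ht ((IsLocalRing.mem_maximalIdeal _).mpr hnu)
  have hmemT : ∀ t : P, IsUnit (algebraMap P S t) → t ∈ T := by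
    intro t htu hmem
    exact (IsLocalRing.mem_maximalIdeal _).mp hmem htu
  have hsurj : ∀ s : S, ∃ p t, t ∈ T ∧ s * algebraMap P S t = algebraMap P S p := by
    intro s
    obtain ⟨⟨a, t₀⟩, hat⟩ := IsLocalization.surj T₀ s
    obtain ⟨p, rfl⟩ := hφsurj a
    obtain ⟨t, ht⟩ := hφsurj t₀.1
    refine ⟨p, t, hmemT t ?_, ?_⟩
    · rw [halg, hψ, ht]
      exact IsLocalization.map_units S t₀
    · rw [halg, halg, hψ, hψ, ht]
      exact hat
  let J : Ideal P := RingHom.ker φ.toRingHom
  have hJle : ∀ p ∈ J, algebraMap P S p = 0 := by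
    intro p hp
    have : φ p = 0 := hp
    rw [halg, hψ, this, map_zero]
  have hker : ∀ p, algebraMap P S p = 0 → ∃ t ∈ T, t * p ∈ J := by
    intro p hp
    rw [halg, hψ, IsLocalization.map_eq_zero_iff T₀ S] at hp
    obtain ⟨c, hc⟩ := hp
    obtain ⟨t, ht⟩ := hφsurj c.1
    refine ⟨t, hmemT t ?_, ?_⟩
    · rw [halg, hψ, ht]
      exact IsLocalization.map_units S c
    · change φ (t * p) = 0
      rw [map_mul, ht]
      exact hc
  -- Step 2: presentations of `M` and `N`
  obtain ⟨nN, mN, gN, νN, hνN⟩ :=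
    exists_presentation_of_finitePresentation T hTu hsurj J hφker hJle hker N
  obtain ⟨nM, mM, gM, νM, hνM⟩ :=
    exists_presentation_of_finitePresentation T hTu hsurj J hφker hJle hker M
  -- Step 3: lift `u`
  let u' : M →ₗ[P] N := u.restrictScalars P
  haveI hfpM : Module.FinitePresentation P ((Fin nM → P) ⧸ Submodule.span P (Set.range gM)) := by
    refine Module.finitePresentation_of_free_of_surjective
      (Submodule.span P (Set.range gM)).mkQ (Submodule.mkQ_surjective _) ?_
    rw [Submodule.ker_mkQ]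
    exact Submodule.fg_span (Set.finite_range gM)
  obtain ⟨h, s, hhs⟩ := Module.FinitePresentation.exists_lift_of_isLocalizedModule T νN
    (u' ∘ₗ νM)
  have hhs' : ∀ y, νN (h y) = s.1 • u (νM y) := fun y => by
    have := LinearMap.congr_fun hhs y
    exact this
  -- Step 4: the matrix of `h`
  have hU : ∀ i : Fin nM, ∃ Ui : Fin nN → P,
      (Submodule.Quotient.mk Ui : (Fin nN → P) ⧸ Submodule.span P (Set.range gN)) =
        h (Submodule.Quotient.mk (fun j => if i = j then 1 else 0)) := fun i =>
    Submodule.Quotient.mk_surjective _ _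
  choose U hU using hU
  have hhU : ∀ x : Fin nM → P, h (Submodule.Quotient.mk x) =
      Submodule.Quotient.mk (∑ i, x i • U i) := by
    intro x
    conv_lhs => rw [pi_eq_sum_univ x]
    rw [← Submodule.mkQ_apply, ← Submodule.mkQ_apply, map_sum, map_sum, map_sum]
    refine Finset.sum_congr rfl fun i _ => ?_
    rw [map_smul, map_smul, map_smul, Submodule.mkQ_apply, Submodule.mkQ_apply, hU]
  have hW : ∀ j : Fin mM, ∃ Wj : Fin mN → P, ∑ k, Wj k • gN k = ∑ i, gM j i • U i := by
    intro j
    have h0 : h (Submodule.Quotient.mk (gM j)) = 0 := by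
      have : (Submodule.Quotient.mk (gM j) :
          (Fin nM → P) ⧸ Submodule.span P (Set.range gM)) = 0 := by
        rw [Submodule.Quotient.mk_eq_zero]
        exact Submodule.subset_span ⟨j, rfl⟩
      rw [this, map_zero]
    rw [hhU, Submodule.Quotient.mk_eq_zero, Submodule.mem_span_range_iff_exists_fun] at h0
    exact h0
  choose W hW using hW
  -- Step 5: descend the coefficients to a finitely generated `ℤ`-subalgebra
  let S0 : Finset R :=
    (Finset.univ.biUnion fun j => Finset.univ.biUnion fun i => (gN j i).coeffs) ∪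
    (Finset.univ.biUnion fun j => Finset.univ.biUnion fun i => (gM j i).coeffs) ∪
    (Finset.univ.biUnion fun j => Finset.univ.biUnion fun i => (U j i).coeffs) ∪
    (Finset.univ.biUnion fun j => Finset.univ.biUnion fun i => (W j i).coeffs)
  let Z : Subalgebra ℤ R := Algebra.adjoin ℤ (S0 : Set R)
  have hZfg : Z.FG := ⟨S0, rfl⟩
  have hft : Algebra.FiniteType ℤ Z := (Subalgebra.fg_iff_finiteType Z).mp hZfg
  have hZnoeth : IsNoetherianRing Z := Algebra.FiniteType.isNoetherianRing ℤ Z
  have hlift : ∀ f : P, (f.coeffs : Set R) ⊆ S0 →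
      ∃ f' : MvPolynomial (Fin r) Z, MvPolynomial.map (algebraMap Z R) f' = f := by
    intro f hf
    exact MvPolynomial.mem_range_map_iff_coeffs_subset.mpr
      (fun a ha => ⟨⟨a, Algebra.subset_adjoin (hf ha)⟩, rfl⟩)
  have hgN₀ : ∀ j i, ∃ f' : MvPolynomial (Fin r) Z,
      MvPolynomial.map (algebraMap Z R) f' = gN j i := fun j i => hlift _ (fun a ha => by
    simp only [S0, Finset.coe_union, Set.mem_union, Finset.coe_biUnion, Set.mem_iUnion]
    exact Or.inl (Or.inl (Or.inl ⟨j, Finset.mem_coe.mpr (Finset.mem_univ j), i,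
      Finset.mem_coe.mpr (Finset.mem_univ i), ha⟩)))
  have hgM₀ : ∀ j i, ∃ f' : MvPolynomial (Fin r) Z,
      MvPolynomial.map (algebraMap Z R) f' = gM j i := fun j i => hlift _ (fun a ha => by
    simp only [S0, Finset.coe_union, Set.mem_union, Finset.coe_biUnion, Set.mem_iUnion]
    exact Or.inl (Or.inl (Or.inr ⟨j, Finset.mem_coe.mpr (Finset.mem_univ j), i,
      Finset.mem_coe.mpr (Finset.mem_univ i), ha⟩)))
  have hU₀ : ∀ j i, ∃ f' : MvPolynomial (Fin r) Z,
      MvPolynomial.map (algebraMap Z R) f' = U j i := fun j i => hlift _ (fun a ha => by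
    simp only [S0, Finset.coe_union, Set.mem_union, Finset.coe_biUnion, Set.mem_iUnion]
    exact Or.inl (Or.inr ⟨j, Finset.mem_coe.mpr (Finset.mem_univ j), i,
      Finset.mem_coe.mpr (Finset.mem_univ i), ha⟩))
  have hW₀ : ∀ j i, ∃ f' : MvPolynomial (Fin r) Z,
      MvPolynomial.map (algebraMap Z R) f' = W j i := fun j i => hlift _ (fun a ha => by
    simp only [S0, Finset.coe_union, Set.mem_union, Finset.coe_biUnion, Set.mem_iUnion]
    exact Or.inr ⟨j, Finset.mem_coe.mpr (Finset.mem_univ j), i,
      Finset.mem_coe.mpr (Finset.mem_univ i), ha⟩)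
  choose gN₀ hgN₀ using hgN₀
  choose gM₀ hgM₀ using hgM₀
  choose U₀ hU₀ using hU₀
  choose W₀ hW₀ using hW₀
  have hWeq : ∀ j, ∑ i, gM₀ j i • U₀ i = ∑ k, W₀ j k • gN₀ k := by
    intro j
    ext l : 1
    apply MvPolynomial.map_injective (algebraMap Z R) Subtype.val_injective
    simp only [Finset.sum_apply, Pi.smul_apply, smul_eq_mul, map_sum, map_mul, hgM₀, hU₀, hW₀,
      hgN₀]
    have := congrFun (hW j) l
    simp only [Finset.sum_apply, Pi.smul_apply, smul_eq_mul] at this
    exact this.symm
  let 𝓓 : PModel Z := ⟨r, nN, mN, gN₀, nM, mM, gM₀, U₀, W₀, hWeq⟩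
  have hgenN : ∀ j, 𝓓.modelN.gen R j = gN j := by
    intro j
    ext i : 1
    exact hgN₀ j i
  have hgenM : ∀ j, 𝓓.modelM.gen R j = gM j := by
    intro j
    ext i : 1
    exact hgM₀ j i
  have hKN : 𝓓.modelN.K R = Submodule.span P (Set.range gN) := by
    rw [Model.K, show 𝓓.modelN.gen R = gN from funext hgenN]
  have hKM : 𝓓.modelM.K R = Submodule.span P (Set.range gM) := by
    rw [Model.K, show 𝓓.modelM.gen R = gM from funext hgenM]
  have huF : ∀ x : Fin nM → P, 𝓓.uF R x = ∑ i, x i • U i := by
    intro x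
    rw [PModel.uF_apply]
    refine Finset.sum_congr rfl fun i _ => ?_
    congr 1
    ext l : 1
    exact hU₀ i l
  let eN : 𝓓.modelN.Mod R ≃ₗ[P] ((Fin nN → P) ⧸ Submodule.span P (Set.range gN)) :=
    Submodule.quotEquivOfEq _ _ hKN
  let eM : 𝓓.modelM.Mod R ≃ₗ[P] ((Fin nM → P) ⧸ Submodule.span P (Set.range gM)) :=
    Submodule.quotEquivOfEq _ _ hKM
  let νN' : 𝓓.modelN.Mod R →ₗ[𝓓.P R] N := νN ∘ₗ eN.toLinearMap
  let νM' : 𝓓.modelM.Mod R →ₗ[𝓓.P R] M := νM ∘ₗ eM.toLinearMap
  have hνN' : IsLocalizedModule q.primeCompl νN' :=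
    IsLocalizedModule.of_linearEquiv_right (S := T) (f := νN) eN
  have hνM' : IsLocalizedModule q.primeCompl νM' :=
    IsLocalizedModule.of_linearEquiv_right (S := T) (f := νM) eM
  -- Step 6: the modified map
  let u'' : M →ₗ[𝓓.P R] N := s.1 • u'
  have hcomm : ∀ y, u'' (νM' y) = νN' (𝓓.uMod R y) := by
    intro y
    obtain ⟨x, rfl⟩ := Submodule.Quotient.mk_surjective _ y
    change s.1 • u (νM (Submodule.Quotient.mk x)) = νN (Submodule.Quotient.mk (𝓓.uF R x))
    rw [← hhs', hhU, huF]
  have hyp'' : ∀ x : M, u'' x ∈ (maximalIdeal R • ⊤ : Submodule R N) →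
      x ∈ (maximalIdeal R • ⊤ : Submodule R M) := by
    intro x hx
    apply hu
    exact mem_smul_top_of_smul_mem q νN' (maximalIdeal R) s.2 hx
  have hmain := main_abstract 𝓓 R q hq νM' νN' u'' hcomm hyp'' I x
  apply hmain
  exact smul_mem_smul_top I s.1 hx

include S₀ T₀ in
/-- **Stacks 046Y** -/
theorem injective_and_flat_of_essFinitePresentation (u : M →ₗ[S] N)
    (hu : ∀ x : M, u x ∈ (maximalIdeal R).map (algebraMap R S) • (⊤ : Submodule S N) →
      x ∈ (maximalIdeal R).map (algebraMap R S) • (⊤ : Submodule S M)) :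
    Injective u ∧ Module.Flat R (N ⧸ LinearMap.range u) := by
  have hu' : ∀ x : M, u x ∈ (maximalIdeal R • ⊤ : Submodule R N) →
      x ∈ (maximalIdeal R • ⊤ : Submodule R M) := by
    intro x hx
    rw [← Groth.Agent.H2.mem_map_smul_top_iff (S := S)] at hx ⊢
    exact hu x hx
  have key := mem_smul_top_of_essFinitePresentation S₀ T₀ u hu'
  have := injective_and_flat_of_forall_ideal (u.restrictScalars R)
    ((LinearMap.range u).mkQ.restrictScalars R) (by
      intro y
      change (LinearMap.range u).mkQ y = 0 ↔ y ∈ Set.range u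
      rw [Submodule.mkQ_apply, Submodule.Quotient.mk_eq_zero]
      rfl) (Submodule.mkQ_surjective _) key
  exact this

end main

end Groth.Agent.H56.FlatDesc
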