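import Mathlib
import Groth.Agent.H56.FlatDesc.Final

set_option autoImplicit false

/-!
# Stacks 046Y with a merely finite source (helper56)

Same as `mem_smul_top_of_essFinitePresentation`, but the source `N` of `u : N → M` is only assumed
finite over `S`; the closed fibre ring `S / 𝔪_R S` is assumed Noetherian (automatic when `S` is
essentially of finite type over `R`).  A posteriori `N` is finitely presented.
-/

namespace Groth.Agent.H56.FlatDesc

universe u

open IsLocalRing Function

section approx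

variable {S : Type u} [CommRing S] (J : Ideal S) [IsNoetherianRing (S ⧸ J)] {n : ℕ}

/-- Modulo `J`, a submodule of a finite free module is finitely generated. -/
theorem exists_fg_le_of_isNoetherianRing_quotient (K : Submodule S (Fin n → S)) :
    ∃ K₀ : Submodule S (Fin n → S), K₀ ≤ K ∧ K₀.FG ∧
      ∀ k ∈ K, ∃ k₀ ∈ K₀, k - k₀ ∈ (J • ⊤ : Submodule S (Fin n → S)) := by
  classical
  let F := Fin n → S
  let X := F ⧸ (J • ⊤ : Submodule S F)
  let mk' : F →ₗ[S] X := (J • ⊤ : Submodule S F).mkQ
  have hfin : Module.Finite (S ⧸ J) X := Module.Finite.of_restrictScalars_finite S (S ⧸ J) X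
  have hnoeth : IsNoetherian (S ⧸ J) X := isNoetherian_of_isNoetherianRing_of_finite (S ⧸ J) X
  have hfg : (Submodule.span (S ⧸ J) (mk' '' (K : Set F))).FG := IsNoetherian.noetherian _
  obtain ⟨s', hs'sub, hs'span⟩ := (Submodule.fg_span_iff_fg_span_finset_subset _).mp hfg
  have hpre : ∀ x : X, ∃ k : F, x ∈ (s' : Set X) → k ∈ K ∧ mk' k = x := by
    intro x
    by_cases hx : x ∈ (s' : Set X)
    · obtain ⟨k, hk, rfl⟩ := hs'sub hx
      exact ⟨k, fun _ => ⟨hk, rfl⟩⟩
    · exact ⟨0, fun h => absurd h hx⟩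
  choose pre hpre using hpre
  refine ⟨Submodule.span S (s'.image pre : Set F), ?_, Submodule.fg_span (Finset.finite_toSet _),
    ?_⟩
  · rw [Submodule.span_le]
    intro k hk
    simp only [Finset.coe_image, Set.mem_image] at hk
    obtain ⟨x, hx, rfl⟩ := hk
    exact (hpre x hx).1
  · intro k hk
    have hmem : mk' k ∈ Submodule.span (S ⧸ J) (s' : Set X) := by
      rw [← hs'span]
      exact Submodule.subset_span ⟨k, hk, rfl⟩
    -- every element of the span over `S ⧸ J` is the image of an element of the span over `S`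
    have key : ∀ x ∈ Submodule.span (S ⧸ J) (s' : Set X),
        ∃ k₀ ∈ Submodule.span S (s'.image pre : Set F), mk' k₀ = x := by
      intro x hx
      induction hx using Submodule.span_induction with
      | mem x hx =>
        exact ⟨pre x, Submodule.subset_span (Finset.mem_coe.mpr (Finset.mem_image_of_mem pre hx)),
          (hpre x hx).2⟩
      | zero => exact ⟨0, Submodule.zero_mem _, map_zero _⟩
      | add x y _ _ hx hy =>
        obtain ⟨a, ha, rfl⟩ := hx
        obtain ⟨b, hb, rfl⟩ := hy
        exact ⟨a + b, Submodule.add_mem _ ha hb, map_add _ _ _⟩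
      | smul c x _ hx =>
        obtain ⟨a, ha, rfl⟩ := hx
        obtain ⟨c, rfl⟩ := Ideal.Quotient.mk_surjective c
        refine ⟨c • a, Submodule.smul_mem _ c ha, ?_⟩
        rw [map_smul]
        rfl
    obtain ⟨k₀, hk₀, hk₀e⟩ := key _ hmem
    refine ⟨k₀, hk₀, ?_⟩
    have : mk' (k - k₀) = 0 := by rw [map_sub, hk₀e, sub_self]
    rw [Submodule.mkQ_apply, Submodule.Quotient.mk_eq_zero] at this
    exact this

end approx

section main

variable {R S : Type u} [CommRing R] [CommRing S] [IsLocalRing R] [IsLocalRing S] [Algebra R S]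
  [IsLocalHom (algebraMap R S)]
  (S₀ : Type u) [CommRing S₀] [Algebra R S₀] [Algebra S₀ S] [IsScalarTower R S₀ S]
  (T₀ : Submonoid S₀) [Algebra.FinitePresentation R S₀] [IsLocalization T₀ S]
  [IsNoetherianRing (S ⧸ (maximalIdeal R).map (algebraMap R S))]
  {M N : Type u} [AddCommGroup M] [Module S M] [Module R M] [IsScalarTower R S M]
  [Module.FinitePresentation S M] [Module.Flat R M]
  [AddCommGroup N] [Module S N] [Module R N] [IsScalarTower R S N]
  [Module.Finite S N]

include S₀ T₀ in
theorem mem_smul_top_of_finite_source (u : N →ₗ[S] M)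
    (hu : ∀ x : N, u x ∈ (maximalIdeal R • ⊤ : Submodule R M) →
      x ∈ (maximalIdeal R • ⊤ : Submodule R N))
    (I : Ideal R) (x : N) (hx : u x ∈ (I • ⊤ : Submodule R M)) :
    x ∈ (I • ⊤ : Submodule R N) := by
  classical
  obtain ⟨n, f, hf⟩ := Module.Finite.exists_fin' S N
  set J : Ideal S := (maximalIdeal R).map (algebraMap R S) with hJ
  obtain ⟨K₀, hK₀le, hK₀fg, hK₀⟩ :=
    exists_fg_le_of_isNoetherianRing_quotient J (LinearMap.ker f)
  let N₀ := (Fin n → S) ⧸ K₀
  have hfp : Module.FinitePresentation S N₀ := by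
    refine Module.finitePresentation_of_free_of_surjective K₀.mkQ (Submodule.mkQ_surjective _) ?_
    rw [Submodule.ker_mkQ]
    exact hK₀fg
  let π : N₀ →ₗ[S] N := K₀.liftQ f hK₀le
  have hπ : ∀ p, π (Submodule.Quotient.mk p) = f p := fun p => rfl
  let u₀ : N₀ →ₗ[S] M := u ∘ₗ π
  have hyp₀ : ∀ x₀ : N₀, u₀ x₀ ∈ (maximalIdeal R • ⊤ : Submodule R M) →
      x₀ ∈ (maximalIdeal R • ⊤ : Submodule R N₀) := by
    intro x₀ hx₀
    obtain ⟨p, rfl⟩ := Submodule.Quotient.mk_surjective _ x₀
    have h1 : f p ∈ (maximalIdeal R • ⊤ : Submodule R N) := hu _ hx₀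
    rw [← Groth.Agent.H2.mem_map_smul_top_iff (S := S)] at h1 ⊢
    -- `J • N` is the image of `J • F`
    have hmap : (J • ⊤ : Submodule S N) = Submodule.map f (J • ⊤) := by
      rw [Submodule.map_smul'', Submodule.map_top, LinearMap.range_eq_top.mpr hf]
    rw [← hJ, hmap] at h1
    obtain ⟨w, hw, hwe⟩ := h1
    have hk : p - w ∈ LinearMap.ker f := by
      rw [LinearMap.mem_ker, map_sub, hwe, sub_self]
    obtain ⟨k₀, hk₀, hk₀J⟩ := hK₀ _ hk
    have h2 : p - k₀ ∈ (J • ⊤ : Submodule S (Fin n → S)) := by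
      have : p - k₀ = (p - w - k₀) + w := by abel
      rw [this]
      exact Submodule.add_mem _ hk₀J hw
    have h3 : (Submodule.Quotient.mk p : N₀) = Submodule.Quotient.mk (p - k₀) := by
      rw [Submodule.Quotient.mk_sub, (Submodule.Quotient.mk_eq_zero K₀).mpr hk₀, sub_zero]
    rw [h3]
    have := Submodule.smul_top_le_comap_smul_top J K₀.mkQ h2
    simpa using this
  obtain ⟨p, rfl⟩ := hf x
  have h4 : (Submodule.Quotient.mk p : N₀) ∈ (I • ⊤ : Submodule R N₀) :=
    mem_smul_top_of_essFinitePresentation S₀ T₀ u₀ hyp₀ I _ hx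
  have := Submodule.smul_top_le_comap_smul_top I (π.restrictScalars R) h4
  rw [Submodule.mem_comap, LinearMap.restrictScalars_apply, hπ] at this
  exact this

end main

end Groth.Agent.H56.FlatDesc
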